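import Cfsg.Agent.SLComm.Assemble

/-!
Finite certificates over the field with two elements.
-/

set_option autoImplicit false

namespace Cfsg.Agent.SLComm

open Matrix

/-- Three by three matrices over `ZMod 2`. -/
abbrev M3 := Matrix (Fin 3) (Fin 3) (ZMod 2)

/-- Four by four matrices over `ZMod 2`. -/
abbrev M4 := Matrix (Fin 4) (Fin 4) (ZMod 2)

/-- Product, unfolded. -/
def mulA (a b : M3) : M3 := of fun i j => a i 0 * b 0 j + a i 1 * b 1 j + a i 2 * b 2 j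

/-- Product, unfolded. -/
def mulB (a b : M4) : M4 :=
  of fun i j => a i 0 * b 0 j + a i 1 * b 1 j + a i 2 * b 2 j + a i 3 * b 3 j

theorem mulA_eq (a b : M3) : mulA a b = a * b := by
  ext i j; simp [mulA, Matrix.mul_apply, Fin.sum_univ_three]

theorem mulB_eq (a b : M4) : mulB a b = a * b := by
  ext i j; simp [mulB, Matrix.mul_apply, Fin.sum_univ_four]

/-- Companion of `X^3 + X + 1`. -/
def cubicTwo : M3 := !![0, 0, 1; 1, 0, 1; 0, 1, 0]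

/-- Companion of `X^4 + X + 1`. -/
def quarticTwo : M4 := !![0, 0, 0, 1; 1, 0, 0, 1; 0, 1, 0, 0; 0, 0, 1, 0]

/-- Krylov matrix. -/
def kryA (a : M3) : M3 :=
  of fun i j => if j = 0 then (if i = 0 then 1 else 0) else if j = 1 then a i 0 else mulA a a i 0

/-- Krylov matrix. -/
def kryB (a : M4) : M4 :=
  of fun i j => if j = 0 then (if i = 0 then 1 else 0) else if j = 1 then a i 0
    else if j = 2 then mulB a a i 0 else mulB a (mulB a a) i 0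

/-- Determinant, unfolded. -/
def detA (a : M3) : ZMod 2 :=
  a 0 0 * a 1 1 * a 2 2 - a 0 0 * a 1 2 * a 2 1 - a 0 1 * a 1 0 * a 2 2
    + a 0 1 * a 1 2 * a 2 0 + a 0 2 * a 1 0 * a 2 1 - a 0 2 * a 1 1 * a 2 0

theorem tailOK_cert {k : ℕ} {A g : Matrix (Fin k) (Fin k) (ZMod 2)}
    (C P Pi Q Qi : Matrix (Fin k) (Fin k) (ZMod 2)) (h1 : P * Pi = 1) (h2 : C * P = P * A)
    (h3 : Q * Qi = 1) (h4 : g * C * Q = Q * A) : TailOK A g :=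
  ⟨C, ⟨P, (isUnit_iff_isUnit_det P).1 ⟨⟨P, Pi, h1, mul_eq_one_comm.1 h1⟩, rfl⟩, h2⟩,
    ⟨Q, (isUnit_iff_isUnit_det Q).1 ⟨⟨Q, Qi, h3, mul_eq_one_comm.1 h3⟩, rfl⟩, h4⟩⟩

/-- Decidable form of similarity to the cubic. -/
def IsCubA (a : M3) : Prop := detA (kryA a) ≠ 0 ∧ mulA a (kryA a) = mulA (kryA a) cubicTwo

instance (a : M3) : Decidable (IsCubA a) :=
  inferInstanceAs (Decidable (¬ detA (kryA a) = 0 ∧ mulA a (kryA a) = mulA (kryA a) cubicTwo))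

theorem sim_of_isCubA {a : M3} (h : IsCubA a) : Sim a cubicTwo :=
  ⟨kryA a, by rw [isUnit_iff_ne_zero, det_fin_three]; exact h.1, by
    rw [← mulA_eq, ← mulA_eq]; exact h.2⟩

/-- Witnesses. -/
def witA : List M3 :=
  [!![1, 1, 1; 1, 0, 1; 0, 1, 1], !![1, 0, 1; 1, 0, 0; 0, 1, 1], !![1, 0, 1; 1, 1, 0; 0, 1, 0],
   !![0, 0, 1; 1, 0, 1; 0, 1, 0], !![0, 0, 1; 1, 1, 0; 0, 1, 1], !![1, 1, 0; 1, 1, 1; 0, 1, 0],
   !![0, 1, 0; 1, 1, 1; 0, 1, 1], !![0, 1, 1; 1, 0, 0; 0, 1, 0]]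

theorem witA_cubic : ∀ C ∈ witA, IsCubA C := by
  simp only [witA, List.forall_mem_cons, List.not_mem_nil, false_implies, implies_true, and_true]
  refine ⟨?_, ?_, ?_, ?_, ?_, ?_, ?_, ?_⟩ <;> decide

/-- The tails of a Hessenberg matrix. -/
def formA (a b c y d z : ZMod 2) : M3 :=
  of fun i j => if i = 0 then (if j = 0 then a else if j = 1 then b else c)
    else if i = 1 then (if j = 0 then 1 else if j = 1 then y else d)
    else (if j = 0 then 0 else if j = 1 then 1 else z)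

set_option maxRecDepth 10000 in
theorem formA_ok : ∀ a b c y d z : ZMod 2, detA (formA a b c y d z) = 1 →
    ∃ C ∈ witA, IsCubA (mulA (formA a b c y d z) C) := by decide

/-- The tails next to a transvection. -/
def formB (a b z : ZMod 2) : M4 :=
  of fun i j => if i = 0 then (if j = 0 then a else if j = 1 then b else 0)
    else if i = 1 then (if j = 0 then 1 else if j = 1 then z else 0)
    else if i = 2 then (if j = 2 then 1 else if j = 3 then 1 else 0)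
    else (if j = 3 then 1 else 0)

theorem tailOK_formB (a b z : ZMod 2) (h : a * z + b = 1) :
    TailOK quarticTwo (formB a b z) := by
  have key : ∀ a b z : ZMod 2, a * z + b = 1 →
      (a = 0 ∧ b = 1 ∧ z = 0) ∨
      (a = 0 ∧ b = 1 ∧ z = 1) ∨
      (a = 1 ∧ b = 0 ∧ z = 1) ∨
      (a = 1 ∧ b = 1 ∧ z = 0) := by decide
  rcases key a b z h with ⟨rfl, rfl, rfl⟩ | ⟨rfl, rfl, rfl⟩ | ⟨rfl, rfl, rfl⟩ | ⟨rfl, rfl, rfl⟩
  · exact tailOK_cert !![1, 1, 1, 0; 0, 1, 1, 0; 0, 0, 0, 1; 1, 0, 1, 0]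
      !![1, 1, 1, 0; 0, 0, 0, 1; 0, 0, 1, 1; 0, 1, 1, 0] !![1, 0, 0, 1; 0, 1, 1, 1; 0, 1, 1, 0; 0, 1, 0, 0]
      !![1, 0, 0, 0; 0, 1, 0, 0; 0, 1, 0, 1; 0, 1, 1, 0] !![1, 0, 0, 0; 0, 1, 0, 0; 0, 1, 0, 1; 0, 1, 1, 0]
      (by rw [← mulB_eq]; decide) (by rw [← mulB_eq, ← mulB_eq]; decide)
      (by rw [← mulB_eq]; decide) (by rw [← mulB_eq, ← mulB_eq, ← mulB_eq]; decide)
  · exact tailOK_cert !![0, 0, 0, 1; 1, 1, 0, 0; 1, 0, 0, 1; 0, 1, 1, 1]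
      !![1, 0, 0, 0; 0, 1, 1, 1; 0, 1, 0, 0; 0, 0, 0, 1] !![1, 0, 0, 0; 0, 0, 1, 0; 0, 1, 1, 1; 0, 0, 0, 1]
      !![1, 1, 0, 0; 0, 1, 0, 0; 0, 1, 1, 1; 0, 0, 0, 1] !![1, 1, 0, 0; 0, 1, 0, 0; 0, 1, 1, 1; 0, 0, 0, 1]
      (by rw [← mulB_eq]; decide) (by rw [← mulB_eq, ← mulB_eq]; decide)
      (by rw [← mulB_eq]; decide) (by rw [← mulB_eq, ← mulB_eq, ← mulB_eq]; decide)
  · exact tailOK_cert !![1, 1, 1, 0; 0, 1, 1, 0; 0, 0, 0, 1; 1, 0, 1, 0]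
      !![1, 1, 1, 0; 0, 0, 0, 1; 0, 0, 1, 1; 0, 1, 1, 0] !![1, 0, 0, 1; 0, 1, 1, 1; 0, 1, 1, 0; 0, 1, 0, 0]
      !![1, 1, 1, 1; 0, 1, 1, 1; 0, 1, 1, 0; 0, 1, 0, 0] !![1, 1, 0, 0; 0, 0, 0, 1; 0, 0, 1, 1; 0, 1, 1, 0]
      (by rw [← mulB_eq]; decide) (by rw [← mulB_eq, ← mulB_eq]; decide)
      (by rw [← mulB_eq]; decide) (by rw [← mulB_eq, ← mulB_eq, ← mulB_eq]; decide)
  · exact tailOK_cert !![1, 1, 0, 0; 0, 1, 1, 0; 0, 1, 0, 1; 1, 0, 0, 0]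
      !![1, 1, 1, 1; 0, 0, 0, 1; 0, 0, 1, 1; 0, 1, 1, 1] !![1, 0, 0, 1; 0, 0, 1, 1; 0, 1, 1, 0; 0, 1, 0, 0]
      !![1, 1, 0, 1; 0, 1, 0, 0; 0, 1, 1, 1; 0, 1, 1, 0] !![1, 1, 1, 1; 0, 1, 0, 0; 0, 1, 0, 1; 0, 0, 1, 1]
      (by rw [← mulB_eq]; decide) (by rw [← mulB_eq, ← mulB_eq]; decide)
      (by rw [← mulB_eq]; decide) (by rw [← mulB_eq, ← mulB_eq, ← mulB_eq]; decide)

end Cfsg.Agent.SLComm
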